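import Groth.Prelude
import Groth.Agent.S2005
import Groth.Agent.ASp.Points
import Groth.Agent.ASp.LocP
import Mathlib.RingTheory.RingHom.Flat

/-! Glueability is étale local. -/

set_option autoImplicit false
set_option linter.style.haveILetI false
set_option backward.isDefEq.respectTransparency false
set_option backward.isDefEq.respectTransparency.types false
set_option maxHeartbeats 800000

universe u

open CategoryTheory Limits AlgebraicGeometry TensorProduct

noncomputable section

namespace Groth.Agent.AlgSpGlue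

variable {R R' : Type u} [CommRing R] [CommRing R'] [Algebra R R'] {f : R}

/-- The torsion criterion. -/
def TorsInj (R R' : Type u) [CommRing R] [CommRing R'] [Algebra R R'] (f : R) (A : Type u) [AddCommGroup A] [Module R A] : Prop :=
  ∀ m : A, (∃ n : ℕ, f ^ n • m = 0) → (1 : R') ⊗ₜ[R] m = 0 → m = 0

variable {A B : Type u} [CommRing A] [Algebra R A] [CommRing B] [Algebra R B] [Algebra A B] [IsScalarTower R A B]
  [Module.Flat A B]

/-- Ascent along flat maps. -/
theorem torsInj_of_flat (hA : TorsInj R R' f A) : TorsInj R R' f B := by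
  rintro m ⟨n, hn⟩ h0
  let c : A := algebraMap R A (f ^ n)
  let mu : A →ₗ[A] A := LinearMap.mulLeft A c
  let K := LinearMap.ker mu
  let j : K →ₗ[A] A ⊗[R] R' := (Algebra.TensorProduct.includeLeft (R := R) (S := A) (A := A) (B := R')).toLinearMap.comp K.subtype
  have hj : Function.Injective j := (injective_iff_map_eq_zero _).2 fun ⟨a, ha⟩ h => Subtype.ext (by
    refine hA a ⟨n, ?_⟩ ?_
    · rw [Algebra.smul_def]
      exact ha
    · have h' := congrArg (TensorProduct.comm R A R') h
      rw [map_zero] at h'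
      exact h')
  have hex : Function.Exact K.subtype mu := LinearMap.exact_subtype_ker_map mu
  have hB := Module.Flat.lTensor_exact (M := B) hex
  obtain ⟨t, ht⟩ := (hB (m ⊗ₜ[A] (1 : A))).1 (by
    rw [LinearMap.lTensor_tmul]
    show m ⊗ₜ[A] (c * 1) = 0
    rw [mul_one, show c = c • (1 : A) from (mul_one c).symm, ← smul_tmul,
      show c • m = 0 by rw [algebraMap_smul]; exact hn, zero_tmul])
  let e := TensorProduct.AlgebraTensorModule.cancelBaseChange R A A B R'
  have hcomp : ∀ s : B ⊗[A] K, e (j.lTensor B s) = ((TensorProduct.rid A B) (K.subtype.lTensor B s)) ⊗ₜ[R] (1 : R') := by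
    intro s
    induction s using TensorProduct.induction_on with
    | zero => simp
    | tmul b a => simp [e, j, Algebra.smul_def, mul_comm]
    | add x y hx hy => rw [map_add, map_add, map_add, map_add, hx, hy, add_tmul]
  have ht0 : t = 0 := (Module.Flat.lTensor_preserves_injective_linearMap (M := B) j hj) (by
    rw [map_zero]
    refine e.injective ?_
    rw [hcomp, ht, TensorProduct.rid_tmul, one_smul, map_zero]
    have h' := congrArg (TensorProduct.comm R R' B) h0
    rw [map_zero] at h'
    exact h')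
  rw [ht0, map_zero] at ht
  have := congrArg (TensorProduct.rid A B) ht
  simpa using this.symm

/-- Descent: torsion elements killed in the base change vanish near the points in the image. -/
theorem exists_not_mem_ann (hB : TorsInj R R' f B) (m : A) (hn : ∃ n : ℕ, f ^ n • m = 0)
    (h0 : (1 : R') ⊗ₜ[R] m = 0) (q : PrimeSpectrum B) :
    ∃ a : A, a • m = 0 ∧ algebraMap A B a ∉ q.asIdeal := by
  by_contra h
  simp only [not_exists, not_and, not_not] at h
  let g : A →ₗ[A] A := (LinearMap.id : A →ₗ[A] A).smulRight m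
  have hm : algebraMap A B m = 0 := by
    refine hB _ (hn.imp fun n hn => ?_) ?_
    · exact ((IsScalarTower.toAlgHom R A B).toLinearMap.map_smul (f ^ n) m).symm.trans
        ((congrArg _ hn).trans (map_zero _))
    · exact ((LinearMap.lTensor_tmul R' (IsScalarTower.toAlgHom R A B).toLinearMap 1 m).symm.trans
        (congrArg _ h0)).trans (map_zero _)
  have hex : Function.Exact (LinearMap.ker g).subtype g := LinearMap.exact_subtype_ker_map g
  obtain ⟨t, ht⟩ := ((Module.Flat.lTensor_exact (M := B) hex) ((1 : B) ⊗ₜ[A] (1 : A))).1 (by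
    rw [LinearMap.lTensor_tmul]
    refine (TensorProduct.rid A B).injective ?_
    simp [g, Algebra.smul_def, hm])
  have hmem : ∀ s : B ⊗[A] LinearMap.ker g, (TensorProduct.rid A B) ((LinearMap.ker g).subtype.lTensor B s) ∈ q.asIdeal := by
    intro s
    induction s using TensorProduct.induction_on with
    | zero => simp
    | tmul b a =>
      rw [LinearMap.lTensor_tmul, TensorProduct.rid_tmul, Algebra.smul_def]
      exact q.asIdeal.mul_mem_right b (h a.1 a.2)
    | add x y hx hy => rw [map_add, map_add]; exact q.asIdeal.add_mem hx hy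
  refine q.isPrime.ne_top ((Ideal.eq_top_iff_one _).2 ?_)
  have := hmem t
  rwa [ht, TensorProduct.rid_tmul, one_smul] at this

omit [Algebra A B] [IsScalarTower R A B] [Module.Flat A B] in
/-- Locality. -/
theorem torsInj_of_cover (h : ∀ p : PrimeSpectrum A, ∃ (B : Type u) (_ : CommRing B) (_ : Algebra R B) (_ : Algebra A B)
    (_ : IsScalarTower R A B) (_ : Module.Flat A B) (q : PrimeSpectrum B),
      PrimeSpectrum.comap (algebraMap A B) q = p ∧ TorsInj R R' f B) : TorsInj R R' f A := by
  intro m hn h0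
  by_contra hm
  have hne : LinearMap.ker ((LinearMap.id : A →ₗ[A] A).smulRight m) ≠ ⊤ := fun he => hm (by
    have h1 : (1 : A) ∈ LinearMap.ker ((LinearMap.id : A →ₗ[A] A).smulRight m) := he ▸ Submodule.mem_top
    simpa using h1)
  obtain ⟨M, hM, hle⟩ := Ideal.exists_le_maximal _ hne
  obtain ⟨B, _, _, _, _, _, q, hq, hB⟩ := h ⟨M, hM.isPrime⟩
  obtain ⟨a, ha, ha'⟩ := exists_not_mem_ann hB m hn h0 q
  exact ha' (show a ∈ (PrimeSpectrum.comap (algebraMap A B) q).asIdeal by rw [hq]; exact hle ha)

section Charts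

open Groth.Agent.ASp

variable {R : Type u} [CommRing R] (Y : AlgSp.Space (Spec (CommRingCat.of R)))

/-- An affine scheme over an affine base. -/
abbrev specOver (R A : Type u) [CommRing R] [CommRing A] [Algebra R A] : Over (Spec (CommRingCat.of R)) :=
  Over.mk (Spec.map (CommRingCat.ofHom (algebraMap R A)))

/-- Two affine étale charts have common flat refinements. -/
theorem exists_common {A C : Type u} [CommRing A] [Algebra R A] [CommRing C] [Algebra R C]
    {g : (AlgSp.yon _).obj (specOver R A) ⟶ Y.obj} (hg : AlgSp.RepWith @Etale g)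
    {h : (AlgSp.yon _).obj (specOver R C) ⟶ Y.obj} (hh : AlgSp.RepWith @Etale h)
    (p : PrimeSpectrum A) (c : PrimeSpectrum C)
    (e : AlgSp.Points.ofPt g p = AlgSp.Points.ofPt h c) :
    ∃ (B : Type u) (_ : CommRing B) (_ : Algebra R B) (α : A →ₐ[R] B) (γ : C →ₐ[R] B) (q : PrimeSpectrum B),
      α.toRingHom.Flat ∧ γ.toRingHom.Flat ∧ PrimeSpectrum.comap α.toRingHom q = p := by
  obtain ⟨W, a, b, hW⟩ : ∃ (W : Over (Spec (CommRingCat.of R))) (a : W ⟶ specOver R A) (b : W ⟶ specOver R C),
      IsPullback ((AlgSp.yon _).map a) ((AlgSp.yon _).map b) g h := by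
    obtain ⟨a, ha⟩ := (AlgSp.yon _).map_surjective (hg.1.fst h)
    exact ⟨_, a, hg.1.snd h, ha.symm ▸ hg.1.isPullback h⟩
  obtain ⟨w, hw, -⟩ := (ofPt_eq_ofPt_iff hW p c).1 e
  have hb : Etale b.left := hg.2 h _ _ hW
  have ha : Etale a.left := hh.2 g _ _ hW.flip
  obtain ⟨O, hO, hwO, -⟩ := exists_isAffineOpen_mem_and_subset (X := W.left) (U := ⊤) (x := w) trivial
  let B : Type u := Γ(W.left, O)
  let φ : R →+* B := (Spec.preimage (hO.fromSpec ≫ W.hom)).hom
  letI := φ.toAlgebra
  have hom : ∀ {T : Type u} [CommRing T] [Algebra R T] (l : W ⟶ specOver R T), Etale l.left →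
      ∃ α : T →ₐ[R] B, α.toRingHom.Flat ∧ Spec.map (CommRingCat.ofHom α.toRingHom) = hO.fromSpec ≫ l.left := by
    intro T _ _ l hl
    let ψ := Spec.preimage (hO.fromSpec ≫ l.left)
    have hψ : Spec.map ψ = hO.fromSpec ≫ l.left := Spec.map_preimage _
    have hl' : l.left ≫ Spec.map (CommRingCat.ofHom (algebraMap R T)) = W.hom := Over.w l
    have hcomm : CommRingCat.ofHom (algebraMap R T) ≫ ψ = CommRingCat.ofHom φ := by
      apply Spec.map_injective
      rw [Spec.map_comp, hψ, Category.assoc, hl']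
      exact (Spec.map_preimage _).symm
    refine ⟨{ ψ.hom with commutes' := fun r => ConcreteCategory.congr_hom hcomm r }, ?_, hψ⟩
    have hfl : Flat (Spec.map ψ) := by
      rw [hψ]
      haveI := hl
      infer_instance
    exact (HasRingHomProperty.Spec_iff (P := @Flat)).1 hfl
  obtain ⟨α, hαf, hα⟩ := hom a ha
  obtain ⟨γ, hγf, -⟩ := hom b hb
  obtain ⟨q, hq⟩ : w ∈ Set.range hO.fromSpec := by rw [hO.range_fromSpec]; exact hwO
  refine ⟨B, inferInstance, inferInstance, α, γ, q, hαf, hγf, ?_⟩
  show Spec.map (CommRingCat.ofHom α.toRingHom) q = p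
  rw [hα, Scheme.Hom.comp_apply]
  exact (congrArg a.left hq).trans hw

variable {R' : Type u} [CommRing R'] [Algebra R R'] {f : R}

/-- Glueability on a covering gives it on every chart. -/
theorem isGlueable_of_cover (hRR' : EtGlue.IsGlueingPair R R' f) {ι : Type u} (C : ι → Type u) [∀ k, CommRing (C k)]
    [∀ k, Algebra R (C k)] (h : ∀ k, (AlgSp.yon _).obj (specOver R (C k)) ⟶ Y.obj) (hh : ∀ k, AlgSp.RepWith @Etale (h k))
    (hs : ∀ y : AlgSp.Points Y.obj, ∃ k, y ∈ Set.range (AlgSp.Points.map (h k)))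
    (hC : ∀ k, EtGlue.IsGlueable R R' f (C k)) (A : Type u) [CommRing A] [Algebra R A]
    (g : (AlgSp.yon _).obj (specOver R A) ⟶ Y.obj) (hg : AlgSp.RepWith @Etale g) :
    EtGlue.IsGlueable R R' f A := by
  refine ((Groth.Agent.S2005.result R R' f hRR'.1 A).2 hRR').2 (torsInj_of_cover fun p => ?_)
  obtain ⟨k, z, hz⟩ := hs (AlgSp.Points.ofPt g p)
  obtain ⟨c, rfl⟩ := (AlgSp.Points.schemeHomeo (specOver R (C k))).surjective z
  obtain ⟨B, _, _, α, γ, q, hαf, hγf, hq⟩ := exists_common Y hg (hh k) p c
    (hz.symm.trans (congrFun (ofPt_comp_eq_map (h k)) c).symm)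
  letI := γ.toRingHom.toAlgebra
  haveI : IsScalarTower R (C k) B := .of_algHom γ
  haveI : Module.Flat (C k) B := RingHom.flat_algebraMap_iff.1 (by exact hγf)
  have hB : TorsInj R R' f B :=
    torsInj_of_flat (A := C k) (((Groth.Agent.S2005.result R R' f hRR'.1 (C k)).2 hRR').1 (hC k))
  letI := α.toRingHom.toAlgebra
  haveI : IsScalarTower R A B := .of_algHom α
  exact ⟨B, inferInstance, inferInstance, inferInstance, inferInstance,
    RingHom.flat_algebraMap_iff.1 (by exact hαf), q, hq, hB⟩

/-- Every space over an affine base has affine charts. -/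
theorem exists_affine_charts :
    ∃ (ι : Type u) (C : ι → Type u) (_ : ∀ k, CommRing (C k)) (_ : ∀ k, Algebra R (C k))
      (h : ∀ k, (AlgSp.yon _).obj (specOver R (C k)) ⟶ Y.obj), (∀ k, AlgSp.RepWith @Etale (h k)) ∧
        ∀ y : AlgSp.Points Y.obj, ∃ k, y ∈ Set.range (AlgSp.Points.map (h k)) := by
  obtain ⟨U, a, ha, has⟩ := Y.property.atlas
  choose O hO hxO using fun x : ↥U.left => exists_isAffineOpen_mem_and_subset (X := U.left) (U := ⊤) (x := x) trivial
  letI : ∀ x, Algebra R Γ(U.left, O x) := fun x => (Spec.preimage ((hO x).fromSpec ≫ U.hom)).hom.toAlgebra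
  let i : ∀ x, specOver R Γ(U.left, O x) ⟶ U := fun x =>
    Over.homMk (hO x).fromSpec (Spec.map_preimage ((hO x).fromSpec ≫ U.hom)).symm
  refine ⟨↥U.left, fun x => Γ(U.left, O x), inferInstance, inferInstance, fun x => (AlgSp.yon _).map (i x) ≫ a,
    fun x => repWith_comp (P := @Etale) (repWith_yon_map (P := @Etale) (g := i x)
      (inferInstanceAs (Etale (hO x).fromSpec))) ha, fun y => ?_⟩
  obtain ⟨x, rfl⟩ := surjective_ofPt has y
  obtain ⟨w, hw⟩ : x ∈ Set.range (hO x).fromSpec := by rw [(hO x).range_fromSpec]; exact (hxO x).1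
  refine ⟨x, AlgSp.Points.schemeHomeo _ w, ?_⟩
  refine (congrFun (ofPt_comp_eq_map ((AlgSp.yon _).map (i x) ≫ a)) w).symm.trans ?_
  rw [ofPt_yon_map_comp]
  exact congrArg (AlgSp.Points.ofPt a) hw

end Charts

end Groth.Agent.AlgSpGlue

end
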